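import Mathlib
import Groth.Prelude.Def_ToposFin2
import Groth.Agent.Lib.Helper5.CechFlasque

/-!
# `ℤ/ℤ_U` on a site: reduction to a subterminal sheaf, and vanishing of `Ext` (helper2)

* `ext_succ_eq_zero_of_ses`: abstract vanishing of `Ext^{n+1}(X₃, P)` from a short exact sequence.
* `Φ` (free abelian sheaf on a sheaf of sets) preserves monomorphisms and epimorphisms.
* `quotSeq W`: the short exact sequence `0 ⟶ ℤ[V] ⟶ ℤ[*] ⟶ ℤ/ℤ_W ⟶ 0`, `V` the image of `W ⟶ *`.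
* `ext_quotZ_eq_zero`: `Ext^{n+1}(ℤ/ℤ_W, P) = 0` for `P` totally acyclic with
  `Hom(ℤ[*], P) ⟶ Hom(ℤ[V], P)` surjective.
-/

set_option autoImplicit false
universe u

noncomputable section

namespace Groth.Agent.Lib.Helper2.QuotZLib

open CategoryTheory CategoryTheory.Limits Abelian Opposite
open Groth.Agent.Lib.Helper5

section Abstract

variable {𝒜 : Type*} [Category 𝒜] [Abelian 𝒜] [HasExt 𝒜]

theorem ext_succ_eq_zero_of_ses (S : ShortComplex 𝒜) (hS : S.ShortExact) (P : 𝒜)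
    (h1 : ∀ (n : ℕ) (x : Ext S.X₁ P (n + 1)), x = 0)
    (h2 : ∀ (n : ℕ) (x : Ext S.X₂ P (n + 1)), x = 0)
    (hsurj : ∀ k : S.X₁ ⟶ P, ∃ g : S.X₂ ⟶ P, S.f ≫ g = k)
    (n : ℕ) (x : Ext S.X₃ P (n + 1)) : x = 0 := by
  obtain ⟨y, rfl⟩ := Ext.contravariant_sequence_exact₃ hS P x (h2 n _) (add_comm 1 n)
  cases n with
  | zero =>
    obtain ⟨k, rfl⟩ := (Ext.mk₀_bijective _ _).2 y
    obtain ⟨g, rfl⟩ := hsurj k
    rw [← Ext.mk₀_comp_mk₀, ← Ext.comp_assoc_of_second_deg_zero, hS.extClass_comp, Ext.zero_comp]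
  | succ m =>
    rw [h1 m y, Ext.comp_zero]

end Abstract

section Sheaf

variable {C : Type u} [SmallCategory C] (J : GrothendieckTopology C)

instance preservesMono_Φ : (CechFlasque.Φ J).PreservesMonomorphisms where
  preserves {K K'} f hf := by
    have h0 : Mono ((sheafToPresheaf J (Type u)).map f) := inferInstance
    have h1 : Mono (((Functor.whiskeringRight Cᵒᵖ _ _).obj AddCommGrpCat.free.{u}).map
        ((sheafToPresheaf J (Type u)).map f)) := by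
      haveI : ∀ U, Mono (((sheafToPresheaf J (Type u)).map f).app U) :=
        fun U => (NatTrans.mono_iff_mono_app _).1 h0 U
      apply NatTrans.mono_of_mono_app
    exact inferInstanceAs (Mono ((presheafToSheaf J AddCommGrpCat.{u}).map
      (((Functor.whiskeringRight Cᵒᵖ _ _).obj AddCommGrpCat.free.{u}).map
        ((sheafToPresheaf J (Type u)).map f))))

instance preservesEpi_Φ : (CechFlasque.Φ J).PreservesEpimorphisms :=
  Functor.preservesEpimorphisms_of_adjunction (CechFlasque.adjΦ J)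

variable {J} (W : Sheaf J (Type u))

/-- the image of `W ⟶ *`: the subterminal sheaf generated by `W`. -/
abbrev Vim : Sheaf J (Type u) := Sheaf.image (terminal.from W)

/-- `V ⟶ *`. -/
abbrev mV : Vim W ⟶ ⊤_ (Sheaf J (Type u)) := Sheaf.imageι (terminal.from W)

/-- `W ⟶ V`. -/
abbrev eV : W ⟶ Vim W := Sheaf.toImage (terminal.from W)

lemma eV_mV : eV W ≫ mV W = terminal.from W := Sheaf.toImage_ι _

/-- `ℤ[*] ⟶ ℤ/ℤ_W`. -/
abbrev πZ : (CechFlasque.Φ J).obj (⊤_ (Sheaf J (Type u))) ⟶ ToposFin.quotZ W :=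
  cokernel.π ((ToposFin.freeAb J).map (terminal.from W))

lemma Φ_map_comp_πZ : (CechFlasque.Φ J).map (terminal.from W) ≫ πZ W = 0 :=
  cokernel.condition _

lemma mV_comp_πZ : (CechFlasque.Φ J).map (mV W) ≫ πZ W = 0 := by
  rw [← cancel_epi ((CechFlasque.Φ J).map (eV W)), ← Category.assoc, ← Functor.map_comp, eV_mV,
    comp_zero]
  exact Φ_map_comp_πZ W

/-- `0 ⟶ ℤ[V] ⟶ ℤ[*] ⟶ ℤ/ℤ_W ⟶ 0`. -/
def quotSeq : ShortComplex (Sheaf J AddCommGrpCat.{u}) :=
  ShortComplex.mk ((CechFlasque.Φ J).map (mV W)) (πZ W) (mV_comp_πZ W)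

/-- `ℤ[W] ⟶ ℤ[*] ⟶ ℤ/ℤ_W`. -/
def quotSeq₀ : ShortComplex (Sheaf J AddCommGrpCat.{u}) :=
  ShortComplex.mk ((CechFlasque.Φ J).map (terminal.from W)) (πZ W) (Φ_map_comp_πZ W)

/-- the comparison `quotSeq₀ ⟶ quotSeq`. -/
def quotSeqMap : quotSeq₀ W ⟶ quotSeq W where
  τ₁ := (CechFlasque.Φ J).map (eV W)
  τ₂ := 𝟙 _
  τ₃ := 𝟙 _
  comm₁₂ := by
    change (CechFlasque.Φ J).map (eV W) ≫ (CechFlasque.Φ J).map (mV W) =
      (CechFlasque.Φ J).map (terminal.from W) ≫ 𝟙 _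
    rw [← Functor.map_comp, eV_mV, Category.comp_id]
  comm₂₃ := by
    change 𝟙 _ ≫ πZ W = πZ W ≫ 𝟙 _
    rw [Category.id_comp, Category.comp_id]

lemma quotSeq_shortExact : (quotSeq W).ShortExact := by
  haveI : Mono (quotSeq W).f := inferInstanceAs (Mono ((CechFlasque.Φ J).map (mV W)))
  haveI : Epi (quotSeq W).g := inferInstanceAs (Epi (cokernel.π _))
  have h0 : (quotSeq₀ W).Exact :=
    ShortComplex.exact_of_g_is_cokernel _ (cokernelIsCokernel _)
  haveI : Epi (quotSeqMap W).τ₁ := inferInstanceAs (Epi ((CechFlasque.Φ J).map (eV W)))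
  haveI : IsIso (quotSeqMap W).τ₂ := inferInstanceAs (IsIso (𝟙 _))
  haveI : Mono (quotSeqMap W).τ₃ := inferInstanceAs (Mono (𝟙 _))
  exact { exact := (ShortComplex.exact_iff_of_epi_of_isIso_of_mono (quotSeqMap W)).1 h0 }

/-- **Vanishing of `Ext^{n+1}(ℤ/ℤ_W, P)`** for `P` totally acyclic with the extension property
along `ℤ[V] ⟶ ℤ[*]`. -/
theorem ext_quotZ_eq_zero (P : Sheaf J AddCommGrpCat.{u}) (hP : CohCx.IsTotallyAcyclic P)
    (hsurj : ∀ k : (CechFlasque.Φ J).obj (Vim W) ⟶ P,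
      ∃ g : (CechFlasque.Φ J).obj (⊤_ (Sheaf J (Type u))) ⟶ P, (CechFlasque.Φ J).map (mV W) ≫ g = k)
    (n : ℕ) (x : Ext (ToposFin.quotZ W) P (n + 1)) : x = 0 := by
  refine ext_succ_eq_zero_of_ses (quotSeq W) (quotSeq_shortExact W) P ?_ ?_ hsurj n x
  · intro m y
    haveI : Subsingleton (Ext (quotSeq W).X₁ P (m + 1)) := hP (Vim W) m
    exact Subsingleton.elim _ _
  · intro m y
    haveI : Subsingleton (Ext (quotSeq W).X₂ P (m + 1)) := hP (⊤_ (Sheaf J (Type u))) m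
    exact Subsingleton.elim _ _

end Sheaf

end Groth.Agent.Lib.Helper2.QuotZLib
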