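import Groth.Agent.Lib.Helper2.QuotZ.Surj
import Groth.Agent.Lib.Helper2.SuppAdj

/-!
# `Ext_O(O/O_U, -)` versus `Ext_ℤ(ℤ/ℤ_U, -)` on a ringed site (helper2)
-/

set_option autoImplicit false
universe u

noncomputable section

namespace Groth.Agent.Lib.Helper2.QuotZLib

open CategoryTheory CategoryTheory.Limits Abelian Opposite
open Groth.Agent.Lib.Helper5 Groth.Agent.Lib.Helper13.ModSiteTensor
open Groth.Agent.Lib.Helper2.ModHomAcyclic Groth.Agent.Lib.Helper2.ExtUnitH

variable {C : Type u} [SmallCategory C] {J : GrothendieckTopology C}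

section Sets

/-- the tautological section of `eps J U` over `U`. -/
def ιU (U : C) : (ToposFin.eps J U).obj.obj (op U) :=
  (toSheafify J (yoneda.obj U)).app (op U) (𝟙 U)

lemma eps_hom_ext (U : C) {S : Sheaf J (Type u)} (a b : ToposFin.eps J U ⟶ S)
    (h : a.hom.app (op U) (ιU U) = b.hom.app (op U) (ιU U)) : a = b := by
  apply Sheaf.hom_ext
  apply sheafify_hom_ext _ _ _ S.property
  apply yonedaEquiv.injective
  exact h

variable (T : Sheaf J (Type u)) (hT : IsTerminal T)

/-- sections of a terminal sheaf of sets are unique. -/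
def uniqueT (X : Cᵒᵖ) : Unique (T.obj.obj X) :=
  Equiv.unique (((sheafToPresheaf J (Type u) ⋙ (evaluation Cᵒᵖ (Type u)).obj X).mapIso
    (hT.uniqueUpToIso (Sheaf.isTerminalTerminal J Types.isTerminalPUnit))).toEquiv.trans
    (Equiv.refl PUnit.{u + 1}))

end Sets

section Mod

variable (O : Sheaf J CommRingCat.{u}) (T : Sheaf J (Type u)) (hT : IsTerminal T)

/-- the global section `1` of `O`, as a map of sheaves of sets out of a (terminal) sheaf. -/
def oneMap : T ⟶ (Um O).obj (ModSite.unit O) where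
  hom :=
    { app := fun X => TypeCat.ofHom (fun _ => (1 : (ModSite.ringSh O).obj.obj X))
      naturality := fun X Y g => by
        ext x
        exact (map_one ((ModSite.ringSh O).obj.map g).hom).symm }

/-- `ℤ[T] ⟶ O`, adjoint to the section `1`. -/
def ηT : (CechFlasque.Φ J).obj T ⟶ ModSite.toAb (ModSite.unit O) :=
  ((CechFlasque.adjΦ J).homEquiv T _).symm (oneMap O T)

lemma homEquiv_ηT_comp {P : ModSite.Mod O} (f : ModSite.unit O ⟶ P) :
    (CechFlasque.adjΦ J).homEquiv T _ (ηT O T ≫ (toAbF O).map f) = oneMap O T ≫ (Um O).map f := by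
  rw [Adjunction.homEquiv_naturality_right]
  unfold ηT
  rw [Equiv.apply_symm_apply]
  rfl

lemma oneMap_comp_apply {P : ModSite.Mod O} (f : ModSite.unit O ⟶ P) (X : Cᵒᵖ) (x : T.obj.obj X) :
    (oneMap O T ≫ (Um O).map f).hom.app X x =
      (f.val.app X).hom (1 : (ModSite.ringSh O).obj.obj X) := rfl

/-- `f ↦ η_T ≫ toAb f`. -/
def zeroMapT (P : ModSite.Mod O) :
    (ModSite.unit O ⟶ P) →+ ((CechFlasque.Φ J).obj T ⟶ ModSite.toAb P) where
  toFun f := ηT O T ≫ (toAbF O).map f
  map_zero' := by rw [Functor.map_zero, comp_zero]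
  map_add' f g := by rw [Functor.map_add, Preadditive.comp_add]

include hT in
lemma zeroMapT_injective (P : ModSite.Mod O) : Function.Injective (zeroMapT O T P) := by
  intro f g h
  have h' : oneMap O T ≫ (Um O).map f = oneMap O T ≫ (Um O).map g := by
    rw [← homEquiv_ηT_comp, ← homEquiv_ηT_comp]
    exact congrArg _ h
  apply (SheafOfModules.unitHomEquiv P).injective
  apply PresheafOfModules.sections_ext
  intro X
  rw [SheafOfModules.unitHomEquiv_apply_coe, SheafOfModules.unitHomEquiv_apply_coe]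
  exact congrArg (fun a => a.hom.app X (uniqueT T hT X).default) h'

include hT in
lemma zeroMapT_surjective (P : ModSite.Mod O) : Function.Surjective (zeroMapT O T P) := by
  intro ψ
  let φ := (CechFlasque.adjΦ J).homEquiv T _ ψ
  let x : ∀ X, T.obj.obj X := fun X => (uniqueT T hT X).default
  have hx : ∀ (X : Cᵒᵖ) (y : T.obj.obj X), y = x X := fun X y => (uniqueT T hT X).eq_default y
  have hφ : ∀ ⦃X Y : Cᵒᵖ⦄ (g : X ⟶ Y),
      ((ModSite.toAb P).obj.map g).hom (φ.hom.app X (x X)) = φ.hom.app Y (x Y) := by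
    intro X Y g
    have h1 := congrArg (fun t => t (x X)) (φ.hom.naturality g)
    rw [← hx Y (T.obj.map g (x X))]
    exact h1.symm
  let s : P.sections := PresheafOfModules.sectionsMk (M := P.val)
    (fun X => φ.hom.app X (x X)) hφ
  refine ⟨(SheafOfModules.unitHomEquiv P).symm s, ?_⟩
  apply ((CechFlasque.adjΦ J).homEquiv T _).injective
  refine (homEquiv_ηT_comp O T _).trans ?_
  apply Sheaf.hom_ext
  ext X y
  refine (oneMap_comp_apply O T _ X y).trans ?_
  have h1 : (((SheafOfModules.unitHomEquiv P).symm s).val.app X).hom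
      (1 : (ModSite.ringSh O).obj.obj X) = φ.hom.app X (x X) := by
    have := SheafOfModules.unitHomEquiv_apply_coe P ((SheafOfModules.unitHomEquiv P).symm s) X
    rw [Equiv.apply_symm_apply] at this
    exact this.symm
  rw [h1, ← hx X y]
  rfl

lemma homEquiv_zero_apply (K : Sheaf J (Type u)) (Q : Sheaf J AddCommGrpCat.{u}) (X : Cᵒᵖ)
    (y : K.obj.obj X) :
    ((CechFlasque.adjΦ J).homEquiv K Q 0).hom.app X y = (0 : Q.obj.obj X) := by
  rw [Adjunction.homEquiv_unit]
  rfl

lemma Φ_map_comp_eq_zero_iff (U : C) (t : ToposFin.eps J U ⟶ T) {P : ModSite.Mod O}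
    (f : ModSite.unit O ⟶ P) :
    (CechFlasque.Φ J).map t ≫ ηT O T ≫ (toAbF O).map f = 0 ↔
      (f.val.app (op U)).hom (1 : (ModSite.ringSh O).obj.obj (op U)) = 0 := by
  have key : (CechFlasque.adjΦ J).homEquiv _ _
      ((CechFlasque.Φ J).map t ≫ ηT O T ≫ (toAbF O).map f) = t ≫ oneMap O T ≫ (Um O).map f := by
    rw [Adjunction.homEquiv_naturality_left, homEquiv_ηT_comp]
  constructor
  · intro h
    have h1 := congrArg (fun a => a.hom.app (op U) (ιU U)) (key.symm.trans
      (congrArg ((CechFlasque.adjΦ J).homEquiv _ _) h))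
    exact h1.trans (homEquiv_zero_apply (ToposFin.eps J U) (ModSite.toAb P) (op U) (ιU U))
  · intro h
    apply ((CechFlasque.adjΦ J).homEquiv _ _).injective
    rw [key]
    apply eps_hom_ext
    exact h.trans
      (homEquiv_zero_apply (ToposFin.eps J U) (ModSite.toAb P) (op U) (ιU U)).symm

end Mod

section Compare

variable (O : Sheaf J CommRingCat.{u}) (U : C)

lemma counit_comp_eq_zero_iff_section (P : ModSite.Mod O) (f : ModSite.unit O ⟶ P) :
    (ModSite.extZeroAdj O U).counit.app (ModSite.unit O) ≫ f = 0 ↔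
      (f.val.app (op U)).hom (1 : (ModSite.ringSh O).obj.obj (op U)) = 0 := by
  rw [SuppAdj.counit_comp_eq_zero_iff (ModSite.extZeroAdj O U) f]
  constructor
  · intro h
    have := congrArg (fun φ => (φ.val.app (op (Over.mk (𝟙 U)))).hom
      (1 : (ModSite.ringSh O).obj.obj (op U))) h
    exact this
  · intro h
    apply (SheafOfModules.unitHomEquiv ((ModSite.restr O U).obj P)).injective
    apply PresheafOfModules.sections_ext
    intro Y
    rw [SheafOfModules.unitHomEquiv_apply_coe, SheafOfModules.unitHomEquiv_apply_coe]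
    have h1 := PresheafOfModules.sections_property (SheafOfModules.unitHomEquiv P f)
      (Y.unop.hom.op)
    rw [SheafOfModules.unitHomEquiv_apply_coe, SheafOfModules.unitHomEquiv_apply_coe] at h1
    rw [h, map_zero] at h1
    exact h1.symm

/-- the terminal sheaf of sets. -/
abbrev TS : Sheaf J (Type u) := ⊤_ (Sheaf J (Type u))

/-- `O/O_U`. -/
abbrev OZ : ModSite.Mod O := (ModSite.quotOn O U).obj (ModSite.unit O)

/-- `O ⟶ O/O_U`. -/
abbrev πO : ModSite.unit O ⟶ OZ O U := (ModSite.quotOnπ O U).app (ModSite.unit O)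

instance : Epi (πO O U) := inferInstanceAs (Epi (cokernel.π _))

lemma counit_comp_πO : (ModSite.extZeroAdj O U).counit.app (ModSite.unit O) ≫ πO O U = 0 :=
  cokernel.condition _

lemma key_iff {P : ModSite.Mod O} (f : ModSite.unit O ⟶ P) :
    (ModSite.extZeroAdj O U).counit.app (ModSite.unit O) ≫ f = 0 ↔
      (CechFlasque.Φ J).map (terminal.from (ToposFin.eps J U)) ≫
        ηT O (TS (J := J)) ≫ (toAbF O).map f = 0 :=
  (counit_comp_eq_zero_iff_section O U P f).trans
    (Φ_map_comp_eq_zero_iff O (TS (J := J)) U (terminal.from _) f).symm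

/-- the canonical map `ℤ/ℤ_U ⟶ O/O_U`. -/
def θ : ToposFin.quotZ (ToposFin.eps J U) ⟶ ModSite.toAb (OZ O U) :=
  cokernel.desc _ (ηT O (TS (J := J)) ≫ (toAbF O).map (πO O U))
    ((key_iff O U (πO O U)).1 (counit_comp_πO O U))

lemma πZ_θ : πZ (ToposFin.eps J U) ≫ θ O U = ηT O (TS (J := J)) ≫ (toAbF O).map (πO O U) :=
  cokernel.π_desc _ _ _

/-- `h ↦ θ ≫ toAb h`. -/
def e0Map (P : ModSite.Mod O) :
    (OZ O U ⟶ P) →+ (ToposFin.quotZ (ToposFin.eps J U) ⟶ ModSite.toAb P) where
  toFun h := θ O U ≫ (toAbF O).map h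
  map_zero' := by rw [Functor.map_zero, comp_zero]
  map_add' f g := by rw [Functor.map_add, Preadditive.comp_add]

lemma e0Map_injective (P : ModSite.Mod O) : Function.Injective (e0Map O U P) := by
  intro h h' e
  have e1 : ηT O (TS (J := J)) ≫ (toAbF O).map (πO O U ≫ h) =
      ηT O (TS (J := J)) ≫ (toAbF O).map (πO O U ≫ h') := by
    rw [Functor.map_comp, Functor.map_comp, ← Category.assoc, ← Category.assoc, ← πZ_θ,
      Category.assoc, Category.assoc]
    exact congrArg (fun a => πZ (ToposFin.eps J U) ≫ a) e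
  have e2 := zeroMapT_injective O (TS (J := J)) terminalIsTerminal P e1
  exact (cancel_epi (πO O U)).1 e2

lemma e0Map_surjective (P : ModSite.Mod O) : Function.Surjective (e0Map O U P) := by
  intro g
  obtain ⟨f, hf⟩ := zeroMapT_surjective O (TS (J := J)) terminalIsTerminal P
    (πZ (ToposFin.eps J U) ≫ g)
  have hf' : ηT O (TS (J := J)) ≫ (toAbF O).map f = πZ (ToposFin.eps J U) ≫ g := hf
  have h0 : (ModSite.extZeroAdj O U).counit.app (ModSite.unit O) ≫ f = 0 := by
    rw [key_iff, hf', ← Category.assoc, Φ_map_comp_πZ, zero_comp]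
  refine ⟨cokernel.desc _ f h0, ?_⟩
  change θ O U ≫ (toAbF O).map (cokernel.desc _ f h0) = g
  rw [← cancel_epi (πZ (ToposFin.eps J U)), ← Category.assoc, πZ_θ, Category.assoc,
    ← Functor.map_comp]
  have : πO O U ≫ cokernel.desc _ f h0 = f := cokernel.π_desc _ _ _
  rw [this, hf']

end Compare

section Delta

open Groth.Agent.Lib.Helper13.DeltaFun

variable (O : Sheaf J CommRingCat.{u}) (U : C) [HasExt.{u} (ModSite.Mod O)]

/-- the δ-functor `P ↦ Ext^n_O(O/O_U, P)`. -/
abbrev TT' : DFun.{u} (ModSite.Mod O) := ofExt (𝟭 (ModSite.Mod O)) (OZ O U)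

/-- the δ-functor `P ↦ H^n_Z(C, P) = Ext^n_ℤ(ℤ/ℤ_U, P)`. -/
abbrev SS' : DFun.{u} (ModSite.Mod O) := ofExt (toAbF O) (ToposFin.quotZ (ToposFin.eps J U))

/-- the comparison in degree `0`. -/
def e0' (P : ModSite.Mod O) : (TT' O U).obj P 0 →+ (SS' O U).obj P 0 :=
  ((Ext.addEquiv₀ (X := ToposFin.quotZ (ToposFin.eps J U))
      (Y := ModSite.toAb P)).symm.toAddMonoidHom.comp
    (e0Map O U P)).comp (Ext.addEquiv₀ (X := OZ O U) (Y := P)).toAddMonoidHom

lemma e0'_mk₀ (P : ModSite.Mod O) (f : OZ O U ⟶ P) :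
    e0' O U P (Ext.mk₀ f) = Ext.mk₀ (θ O U ≫ (toAbF O).map f) := by
  change Ext.addEquiv₀.symm (e0Map O U P (Ext.addEquiv₀ (Ext.mk₀ f))) = _
  rw [Ext.addEquiv₀_symm_apply]
  congr 1
  have : Ext.addEquiv₀ (Ext.mk₀ f) = f := Ext.addEquiv₀.apply_symm_apply f
  rw [this]
  rfl

lemma e0'_bijective (P : ModSite.Mod O) : Function.Bijective (e0' O U P) := by
  have h1 : Function.Bijective (e0Map O U P) := ⟨e0Map_injective O U P, e0Map_surjective O U P⟩
  exact (Ext.addEquiv₀.symm.bijective.comp h1).comp Ext.addEquiv₀.bijective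

lemma e0'_natural {P Q : ModSite.Mod O} (φ : P ⟶ Q) (x : (TT' O U).obj P 0) :
    e0' O U Q ((TT' O U).map φ 0 x) = (SS' O U).map φ 0 (e0' O U P x) := by
  obtain ⟨f, rfl⟩ := (Ext.mk₀_bijective _ _).2 x
  rw [ofExt_map_apply, e0'_mk₀, ofExt_map_apply, Ext.mk₀_comp_mk₀, Ext.mk₀_comp_mk₀]
  change e0' O U Q (Ext.mk₀ (f ≫ φ)) = _
  rw [e0'_mk₀, Functor.map_comp, Category.assoc]

lemma effaceable_TT' : Effaceable (TT' O U) := by
  intro I _ n x
  exact Ext.eq_zero_of_injective x

lemma effaceable_SS' : Effaceable (SS' O U) := by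
  intro I _ n x
  exact ext_quotZ_toAb_injective O (ToposFin.eps J U) I n x

/-- **Cohomology with supports of an `O`-module computed in `Mod(O)` and on the underlying abelian
sheaf agree**: a morphism of δ-functors `Ext^n_O(O/O_U, -) ⟶ Ext^n_ℤ(ℤ/ℤ_U, -)`, bijective in
every degree. -/
theorem exists_comparison' :
    ∃ e : ∀ (P : ModSite.Mod O) (n : ℕ), Ext (OZ O U) P n →+ ModSite.HZ U P n,
      IsHom (TT' O U) (SS' O U) e ∧ (∀ P, e P 0 = e0' O U P) ∧
        ∀ P n, Function.Bijective (e P n) :=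
  bijective_of_zero (effaceable_TT' O U) (effaceable_SS' O U) (e0' O U) (e0'_natural O U)
    (e0'_bijective O U)

/-- the objectwise form. -/
theorem nonempty_iso' (P : ModSite.Mod O) (n : ℕ) :
    Nonempty (AddCommGrpCat.of (Ext (OZ O U) P n) ≅ AddCommGrpCat.of (ModSite.HZ U P n)) := by
  obtain ⟨e, -, -, hb⟩ := exists_comparison' O U
  exact ⟨AddEquiv.toAddCommGrpIso (AddEquiv.ofBijective (e P n) (hb P n))⟩

end Delta

end Groth.Agent.Lib.Helper2.QuotZLib
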