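import Groth.Agent.Lib.Helper2.QuotZ.Compare
import Groth.Agent.Lib.Helper2.GSS.AcyclicClass
import Groth.Agent.Lib.Helper13.FlasqueMono
import Groth.Agent.Lib.Helper13.ModSiteRestr
import Groth.Agent.Lib.Helper13.SectOnRestr

/-!
# Local cohomology of flasque modules on a ringed site vanishes (helper2)
-/

set_option autoImplicit false
universe u

noncomputable section

namespace Groth.Agent.Lib.Helper2.QuotZLib

open CategoryTheory CategoryTheory.Limits Abelian Opposite
open Groth.Agent.Lib.Helper5 Groth.Agent.Lib.Helper13.ModSiteTensor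
open Groth.Agent.Lib.Helper2.ModHomAcyclic Groth.Agent.Lib.Helper2.ExtUnitH

variable {C : Type u} [SmallCategory C] {J : GrothendieckTopology C}

section Sub

variable (U : C) (K : Sheaf J (Type u))

/-- sections of `K` over objects admitting a map to `U`. -/
def subU : Subfunctor K.obj where
  obj V := {_k | Nonempty (V.unop ⟶ U)}
  map := by
    rintro V W i k ⟨b⟩
    exact ⟨i.unop ≫ b⟩

/-- the subsheaf of `K` of sections over objects locally admitting a map to `U`. -/
def Kp : Sheaf J (Type u) :=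
  ⟨((subU U K).sheafify J).toFunctor, by
    rw [isSheaf_iff_isSheaf_of_type]
    apply Subfunctor.sheafify_isSheaf
    rw [← isSheaf_iff_isSheaf_of_type]
    exact K.2⟩

/-- the inclusion `K' ⟶ K`. -/
def mK : Kp U K ⟶ K := ⟨Subfunctor.ι _⟩

instance : Mono (mK U K) :=
  (sheafToPresheaf J _).mono_of_mono_map (by
    change Mono (Subfunctor.ι _)
    infer_instance)

/-- sections over objects over `U` lie in `K'`. -/
def toKp (Y : Over U) (k : K.obj.obj (op Y.left)) : (Kp U K).obj.obj (op Y.left) :=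
  ⟨k, by
    change _ ∈ J _
    convert J.top_mem Y.left
    rw [eq_top_iff]
    rintro V i -
    exact ⟨i ≫ Y.hom⟩⟩

lemma mK_toKp (Y : Over U) (k : K.obj.obj (op Y.left)) :
    (mK U K).hom.app (op Y.left) (toKp U K Y k) = k := rfl

/-- every section of `K'` lives over an object locally over `U`. -/
lemma Kp_cover (V : Cᵒᵖ) (k : (Kp U K).obj.obj V) :
    ∃ S ∈ J V.unop, ∀ ⦃W : C⦄ (g : W ⟶ V.unop), S g → Nonempty (W ⟶ U) :=
  ⟨_, k.2, fun _ _ hg => hg⟩

end Sub

section Transpose

variable (O : Sheaf J CommRingCat.{u})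

/-- presheaf-level transpose of a map out of the free module on `K`. -/
def pre {K : Sheaf J (Type u)} {F : ModSite.Mod O} (t : (Psi O).obj K ⟶ F) :
    (FrP O).obj K.obj ⟶ (fgt O).obj F :=
  (shfAdj O).homEquiv _ _ t

/-- set-level transpose of a map out of the free module on `K`. -/
def nat {K : Sheaf J (Type u)} {F : ModSite.Mod O} (t : (Psi O).obj K ⟶ F) :
    K.obj ⟶ ((fgt O).obj F).presheaf ⋙ forget _ :=
  PresheafOfModules.freeHomEquiv (pre O t)

lemma pre_comp {K : Sheaf J (Type u)} {F F' : ModSite.Mod O} (t : (Psi O).obj K ⟶ F)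
    (φ : F ⟶ F') : pre O (t ≫ φ) = pre O t ≫ (fgt O).map φ :=
  (shfAdj O).homEquiv_naturality_right t φ

lemma nat_app {K : Sheaf J (Type u)} {F : ModSite.Mod O} (t : (Psi O).obj K ⟶ F)
    (V : Cᵒᵖ) (k : K.obj.obj V) :
    (nat O t).app V k = ((pre O t).app V).hom (ModuleCat.freeMk k) := rfl

end Transpose

section Restr

open Groth.Agent.Lib.Helper13.TensorLocal

variable (O : Sheaf J CommRingCat.{u}) (U : C)

lemma homEquiv_app {P : PMod O} {F : ModSite.Mod O} (t : (shf O).obj P ⟶ F) (V : Cᵒᵖ)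
    (p : P.obj V) :
    (((shfAdj O).homEquiv P F t).app V).hom p =
      (t.val.app V).hom ((((shfAdj O).unit.app P).app V).hom p) := by
  rw [Adjunction.homEquiv_unit]
  rfl

/-- two maps out of a sheafification agree on `C/U` if their transposes agree over objects
over `U`. -/
lemma restr_map_eq_of_app_eq {P : PMod O} {F : ModSite.Mod O} (t t' : (shf O).obj P ⟶ F)
    (h : ∀ Y : Over U, ((shfAdj O).homEquiv P F t).app (op Y.left) =
      ((shfAdj O).homEquiv P F t').app (op Y.left)) :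
    (ModSite.restr O U).map t = (ModSite.restr O U).map t' := by
  apply SheafOfModules.hom_ext
  apply PresheafOfModules.hom_ext
  intro Y
  apply ModuleCat.hom_ext
  apply LinearMap.ext
  intro s
  change (t.val.app (op Y.unop.left)).hom s = (t'.val.app (op Y.unop.left)).hom s
  obtain ⟨S, hS, hloc⟩ := locSurj_unit (𝟙 (ModSite.ringSh O).obj) P Y.unop.left s
  have hsep : Presieve.IsSeparated J ((Um O).obj F).obj :=
    ((isSheaf_iff_isSheaf_of_type J _).1 ((Um O).obj F).2).isSeparated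
  refine (hsep S hS).ext (fun W g hg => ?_)
  obtain ⟨p, hp⟩ := hloc g hg
  have h1 := homEquiv_app O t (op W) p
  have h2 := homEquiv_app O t' (op W) p
  have h3 := congrArg (fun φ => φ.hom p) (h (Over.mk (g ≫ Y.unop.hom)))
  have n1 := congrArg (fun φ => φ.hom s) (t.val.naturality g.op)
  have n2 := congrArg (fun φ => φ.hom s) (t'.val.naturality g.op)
  refine n1.symm.trans (Eq.trans ?_ n2)
  change (t.val.app (op W)).hom ((((shf O).obj P).val.map g.op).hom s) =
    (t'.val.app (op W)).hom ((((shf O).obj P).val.map g.op).hom s)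
  have hp' : (((shf O).obj P).val.map g.op).hom s =
      (((shfAdj O).unit.app P).app (op W)).hom p := hp.symm
  rw [hp', ← h1, ← h2]
  exact h3

lemma app_eq_of_restr_map_eq {P : PMod O} {F : ModSite.Mod O} (t t' : (shf O).obj P ⟶ F)
    (h : (ModSite.restr O U).map t = (ModSite.restr O U).map t') (Y : Over U) :
    ((shfAdj O).homEquiv P F t).app (op Y.left) =
      ((shfAdj O).homEquiv P F t').app (op Y.left) := by
  apply ModuleCat.hom_ext
  apply LinearMap.ext
  intro p
  rw [homEquiv_app, homEquiv_app]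
  exact congrArg (fun φ => (φ.val.app (op Y)).hom
    ((((shfAdj O).unit.app P).app (op Y.left)).hom p)) h

end Restr

section Hat

variable (O : Sheaf J CommRingCat.{u}) (U : C)

/-- the sheaf-level set transpose. -/
def natS {K : Sheaf J (Type u)} {F : ModSite.Mod O} (t : (Psi O).obj K ⟶ F) :
    K ⟶ (Um O).obj F := ⟨nat O t⟩

/-- the transpose `ℤ[K] ⟶ toAb F`. -/
def hat {K : Sheaf J (Type u)} {F : ModSite.Mod O} (t : (Psi O).obj K ⟶ F) :
    (CechFlasque.Φ J).obj K ⟶ (toAbF O).obj F :=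
  ((CechFlasque.adjΦ J).homEquiv K _).symm (natS O t)

lemma natS_comp {K : Sheaf J (Type u)} {F F' : ModSite.Mod O} (t : (Psi O).obj K ⟶ F)
    (φ : F ⟶ F') : natS O (t ≫ φ) = natS O t ≫ (Um O).map φ := by
  apply Sheaf.hom_ext
  change nat O (t ≫ φ) = nat O t ≫ ((Um O).map φ).hom
  unfold nat
  rw [pre_comp]
  rfl

lemma hat_comp {K : Sheaf J (Type u)} {F F' : ModSite.Mod O} (t : (Psi O).obj K ⟶ F)
    (φ : F ⟶ F') : hat O (t ≫ φ) = hat O t ≫ (toAbF O).map φ := by
  unfold hat
  rw [natS_comp]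
  exact (CechFlasque.adjΦ J).homEquiv_naturality_right_symm _ _

lemma hat_surjective {K : Sheaf J (Type u)} {F : ModSite.Mod O}
    (τ : (CechFlasque.Φ J).obj K ⟶ (toAbF O).obj F) : ∃ t : (Psi O).obj K ⟶ F, hat O t = τ := by
  let σ : K ⟶ (Um O).obj F := (CechFlasque.adjΦ J).homEquiv K _ τ
  refine ⟨((shfAdj O).homEquiv _ _).symm (PresheafOfModules.freeHomEquiv.symm σ.hom), ?_⟩
  unfold hat
  have : natS O (((shfAdj O).homEquiv _ _).symm (PresheafOfModules.freeHomEquiv.symm σ.hom)) = σ := by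
    apply Sheaf.hom_ext
    change PresheafOfModules.freeHomEquiv ((shfAdj O).homEquiv _ _
      (((shfAdj O).homEquiv _ _).symm (PresheafOfModules.freeHomEquiv.symm σ.hom))) = σ.hom
    rw [Equiv.apply_symm_apply, Equiv.apply_symm_apply]
  rw [this]
  exact Equiv.symm_apply_apply _ _

lemma homEquiv_hat {K : Sheaf J (Type u)} {F : ModSite.Mod O} (t : (Psi O).obj K ⟶ F) :
    (CechFlasque.adjΦ J).homEquiv K _ (hat O t) = natS O t :=
  Equiv.apply_symm_apply _ _

lemma map_comp_hat_eq_iff {K' K : Sheaf J (Type u)} (m : K' ⟶ K) {F : ModSite.Mod O}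
    (t t' : (Psi O).obj K ⟶ F) :
    (CechFlasque.Φ J).map m ≫ hat O t = (CechFlasque.Φ J).map m ≫ hat O t' ↔
      m ≫ natS O t = m ≫ natS O t' := by
  rw [← homEquiv_hat, ← homEquiv_hat, ← Adjunction.homEquiv_naturality_left,
    ← Adjunction.homEquiv_naturality_left]
  exact ((CechFlasque.adjΦ J).homEquiv _ _).injective.eq_iff.symm

/-- agreement on `K'` implies agreement of restrictions to `C/U`. -/
theorem restr_map_eq_of_hat {K : Sheaf J (Type u)} {F : ModSite.Mod O}
    (t t' : (Psi O).obj K ⟶ F)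
    (h : (CechFlasque.Φ J).map (mK U K) ≫ hat O t = (CechFlasque.Φ J).map (mK U K) ≫ hat O t') :
    (ModSite.restr O U).map t = (ModSite.restr O U).map t' := by
  rw [map_comp_hat_eq_iff] at h
  apply restr_map_eq_of_app_eq
  intro Y
  apply ModuleCat.free_hom_ext
  intro k
  have h1 := congrArg (fun φ => φ.hom.app (op Y.left) (toKp U K Y k)) h
  exact h1

/-- agreement of restrictions to `C/U` implies agreement on `K'`. -/
theorem hat_of_restr_map_eq {K : Sheaf J (Type u)} {F : ModSite.Mod O}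
    (t t' : (Psi O).obj K ⟶ F)
    (h : (ModSite.restr O U).map t = (ModSite.restr O U).map t') :
    (CechFlasque.Φ J).map (mK U K) ≫ hat O t = (CechFlasque.Φ J).map (mK U K) ≫ hat O t' := by
  rw [map_comp_hat_eq_iff]
  apply Sheaf.hom_ext
  apply NatTrans.ext
  funext V
  ext k'
  obtain ⟨S, hS, hloc⟩ := Kp_cover U K V k'
  have hsep : Presieve.IsSeparated J ((Um O).obj F).obj :=
    ((isSheaf_iff_isSheaf_of_type J _).1 ((Um O).obj F).2).isSeparated
  refine (hsep S hS).ext (fun W g hg => ?_)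
  obtain ⟨b⟩ := hloc g hg
  have e := app_eq_of_restr_map_eq O U t t' h (Over.mk b)
  have n1 := congrArg (fun φ => φ k'.1) ((nat O t).naturality g.op)
  have n2 := congrArg (fun φ => φ k'.1) ((nat O t').naturality g.op)
  refine n1.symm.trans (Eq.trans ?_ n2)
  exact congrArg (fun φ => φ.hom (ModuleCat.freeMk (K.obj.map g.op k'.1))) e

lemma hat_zero {K : Sheaf J (Type u)} {F : ModSite.Mod O} :
    hat O (0 : (Psi O).obj K ⟶ F) = 0 := by
  have := hat_comp O (0 : (Psi O).obj K ⟶ F) (0 : F ⟶ F)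
  rw [comp_zero, Functor.map_zero, comp_zero] at this
  exact this

end Hat

section Main

open Groth.Agent.Lib.Helper13

variable (O : Sheaf J CommRingCat.{u}) (U : C) [ModSite.HasPushOver O U]

lemma comp_unit_eq_zero_iff' {T F : ModSite.Mod O} (t : T ⟶ F) :
    t ≫ (ModSite.restrPushOverAdj O U).unit.app F = 0 ↔ (ModSite.restr O U).map t = 0 :=
  SectOnRestr.comp_unit_eq_zero_iff (ModSite.restrPushOverAdj O U) t

/-- **`Γ_Z` is exact on short exact sequences starting with a flasque module.** -/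
theorem epi_sectOn_map (S : ShortComplex (ModSite.Mod O)) (hS : S.ShortExact)
    (hX₁ : CohCx.IsTotallyAcyclic (ModSite.toAb S.X₁)) :
    Epi ((ModSite.sectOn O U).map S.g) := by
  haveI := hS.epi_g
  haveI := hS.mono_f
  rw [epi_iff_surjective_up_to_refinements]
  intro A y
  obtain ⟨A₁, π₁, hπ₁, x₁, hx₁⟩ := (epi_iff_surjective_up_to_refinements S.g).1 inferInstance
    (y ≫ (ModSite.sectOnι O U).app S.X₃)
  let K := (Um O).obj A₁
  let c : (Psi O).obj K ⟶ A₁ := (adjPsi O).counit.app A₁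
  haveI : Epi c := inferInstanceAs (Epi ((adjPsi O).counit.app A₁))
  let x : (Psi O).obj K ⟶ S.X₂ := c ≫ x₁
  have hι : (ModSite.restr O U).map ((ModSite.sectOnι O U).app S.X₃) = 0 :=
    (comp_unit_eq_zero_iff' O U _).1 (kernel.condition _)
  have hxg : (ModSite.restr O U).map (x ≫ S.g) =
      (ModSite.restr O U).map (0 : (Psi O).obj K ⟶ S.X₃) := by
    have : x ≫ S.g = (c ≫ π₁ ≫ y) ≫ (ModSite.sectOnι O U).app S.X₃ := by
      simp only [x, Category.assoc]
      rw [← hx₁]
    rw [this, Functor.map_comp, hι, comp_zero, Functor.map_zero]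
  have h1 : ((CechFlasque.Φ J).map (mK U K) ≫ hat O x) ≫ (toAbF O).map S.g = 0 := by
    have := hat_of_restr_map_eq O U _ _ hxg
    rw [hat_comp, hat_zero, comp_zero, ← Category.assoc] at this
    exact this
  have hSab : (S.map (toAbF O)).ShortExact := hS.map_of_exact (toAbF O)
  haveI := hSab.mono_f
  let y' : (CechFlasque.Φ J).obj (Kp U K) ⟶ (toAbF O).obj S.X₁ :=
    hSab.exact.lift ((CechFlasque.Φ J).map (mK U K) ≫ hat O x) h1
  have hy' : y' ≫ (toAbF O).map S.f = (CechFlasque.Φ J).map (mK U K) ≫ hat O x :=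
    hSab.exact.lift_f _ _
  obtain ⟨τ', hτ'⟩ := FlasqueMono.exists_extension_of_totallyAcyclic ((toAbF O).obj S.X₁) hX₁
    (mK U K) y'
  obtain ⟨τ, rfl⟩ := hat_surjective O τ'
  have h2 : (ModSite.restr O U).map (τ ≫ S.f) = (ModSite.restr O U).map x := by
    apply restr_map_eq_of_hat
    rw [hat_comp, ← Category.assoc, hτ', hy']
  have h3 : (x - τ ≫ S.f) ≫ (ModSite.restrPushOverAdj O U).unit.app S.X₂ = 0 := by
    rw [comp_unit_eq_zero_iff', Functor.map_sub, h2, sub_self]
  let ℓ := SectOnRestr.sectOnLift O U (x - τ ≫ S.f) h3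
  have hl : ℓ ≫ (ModSite.sectOnι O U).app S.X₂ = x - τ ≫ S.f :=
    SectOnRestr.sectOnLift_ι O U _ h3
  refine ⟨(Psi O).obj K, c ≫ π₁, epi_comp _ _, ℓ, ?_⟩
  haveI : Mono ((ModSite.sectOnι O U).app S.X₃) := inferInstanceAs (Mono (kernel.ι _))
  rw [← cancel_mono ((ModSite.sectOnι O U).app S.X₃)]
  have n : (ModSite.sectOn O U).map S.g ≫ (ModSite.sectOnι O U).app S.X₃ =
      (ModSite.sectOnι O U).app S.X₂ ≫ S.g := (ModSite.sectOnι O U).naturality S.g
  calc ((c ≫ π₁) ≫ y) ≫ (ModSite.sectOnι O U).app S.X₃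
      = c ≫ π₁ ≫ y ≫ (ModSite.sectOnι O U).app S.X₃ := by
        simp only [Category.assoc]
    _ = c ≫ x₁ ≫ S.g := by rw [hx₁]
    _ = (x - τ ≫ S.f) ≫ S.g := by
        rw [Preadditive.sub_comp, Category.assoc τ, S.zero, comp_zero, sub_zero, Category.assoc]
    _ = (ℓ ≫ (ModSite.sectOnι O U).app S.X₂) ≫ S.g := by rw [hl]
    _ = (ℓ ≫ (ModSite.sectOn O U).map S.g) ≫ (ModSite.sectOnι O U).app S.X₃ := by
        rw [Category.assoc, ← n, Category.assoc]

section Final

variable [HasInjectiveResolutions (ModSite.Mod O)]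

/-- cokernels of monomorphisms between totally acyclic sheaves are totally acyclic. -/
lemma isTotallyAcyclic_of_ses (S : ShortComplex (Sheaf J AddCommGrpCat.{u})) (hS : S.ShortExact)
    (h1 : CohCx.IsTotallyAcyclic S.X₁) (h2 : CohCx.IsTotallyAcyclic S.X₂) :
    CohCx.IsTotallyAcyclic S.X₃ := by
  intro K p
  have key : ∀ x : Ext ((presheafToSheaf J AddCommGrpCat.{u}).obj
      (K.obj ⋙ AddCommGrpCat.free.{u})) S.X₃ (p + 1), x = 0 := by
    intro x
    haveI := h1 K (p + 1)
    haveI := h2 K p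
    obtain ⟨y, rfl⟩ := Ext.covariant_sequence_exact₃ _ hS x rfl (Subsingleton.elim _ _)
    rw [Subsingleton.elim y 0, Ext.zero_comp]
  exact ⟨fun a b => by rw [key a, key b]⟩

/-- **`ℋ^{n+1}_Z(M) = 0` for `M` flasque.** -/
theorem isZero_HZsh_of_isTotallyAcyclic (M : ModSite.Mod O)
    (hM : CohCx.IsTotallyAcyclic (ModSite.toAb M)) (n : ℕ) :
    IsZero ((ModSite.HZsh O U (n + 1)).obj M) := by
  haveI : PreservesLimitsOfSize.{0, 0} (ModSite.sectOn O U) :=
    (SuppAdj.adjQuotSect O U).rightAdjoint_preservesLimits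
  haveI : PreservesFiniteLimits (ModSite.sectOn O U) := PreservesLimitsOfSize.preservesFiniteLimits _
  refine GSS.isZero_rightDerived_of_class (ModSite.sectOn O U)
    (fun A => CohCx.IsTotallyAcyclic (ModSite.toAb A)) ?_ ?_ ?_ n M hM
  · intro I hI
    exact ExtUnitH.isTotallyAcyclic_of_injective O I
  · intro S hS h1 h2
    exact isTotallyAcyclic_of_ses (S.map (toAbF O)) (hS.map_of_exact (toAbF O)) h1 h2
  · intro S hS h1
    exact epi_sectOn_map O U S hS h1

/-- **`H^{n+1}_Z(M) = 0` for `M` flasque.** -/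
theorem subsingleton_HZ_of_isTotallyAcyclic (M : ModSite.Mod O)
    (hM : CohCx.IsTotallyAcyclic (ModSite.toAb M)) (n : ℕ) :
    Subsingleton (ModSite.HZ U M (n + 1)) := by
  have key := ext_quotZ_eq_zero (ToposFin.eps J U) (ModSite.toAb M) hM
    (fun k => FlasqueMono.exists_extension_of_totallyAcyclic (ModSite.toAb M) hM
      (mV (ToposFin.eps J U)) k) n
  exact ⟨fun a b => (key a).trans (key b).symm⟩

end Final

end Main

end Groth.Agent.Lib.Helper2.QuotZLib
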