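import Groth.Agent.Lib.Helper2.QuotZ.Flasque
import Groth.Agent.Lib.Helper2.DeltaIso
import Groth.Agent.Lib.Helper17.QCAlgCore

/-!
# Local cohomology sheaves commute with restriction of scalars (helper2)
-/

set_option autoImplicit false
universe u

noncomputable section

namespace Groth.Agent.Lib.Helper2.QuotZLib

open CategoryTheory CategoryTheory.Limits Abelian Opposite
open Groth.Agent.Lib.Helper5 Groth.Agent.Lib.Helper13.ModSiteTensor
open Groth.Agent.Lib.Helper2.ModHomAcyclic Groth.Agent.Lib.Helper2.ExtUnitH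
open Groth.Agent.Lib.Helper13

variable {C : Type u} [SmallCategory C] {J : GrothendieckTopology C}

section HatInj

variable (O : Sheaf J CommRingCat.{u})

lemma hat_injective {K : Sheaf J (Type u)} {F : ModSite.Mod O} (t t' : (Psi O).obj K ⟶ F)
    (h : hat O t = hat O t') : t = t' := by
  have h1 : natS O t = natS O t' := ((CechFlasque.adjΦ J).homEquiv K _).symm.injective h
  have h2 : nat O t = nat O t' := congrArg (fun a => a.hom) h1
  have h3 : pre O t = pre O t' := PresheafOfModules.freeHomEquiv.injective h2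
  exact ((shfAdj O).homEquiv _ _).injective h3

end HatInj

section Res

variable {O O' : Sheaf J CommRingCat.{u}} (φ : O ⟶ O') (U : C)

/-- the morphism of sheaves of rings underlying `φ`. -/
abbrev αmap : ModSite.ringSh O ⟶ ModSite.ringSh O' :=
  (sheafCompose J (forget₂ CommRingCat.{u} RingCat.{u})).map φ

/-- restriction of scalars. -/
abbrev res : ModSite.Mod O' ⥤ ModSite.Mod O := SheafOfModules.restrictScalars (αmap φ)

instance : PreservesFiniteLimits (res φ) :=
  Groth.Agent.Lib.Helper17.QCAlgCore.restrictScalars_preservesFiniteLimits _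

instance : PreservesFiniteColimits (res φ) := by
  constructor
  intro K _ _
  exact Groth.Agent.Lib.Helper17.QCAlgCore.restrictScalars_preservesColimitsOfShape (J := J) (αmap φ) K

lemma restr_res_map_eq_zero {M N : ModSite.Mod O'} (g : M ⟶ N)
    (h : (ModSite.restr O' U).map g = 0) : (ModSite.restr O U).map ((res φ).map g) = 0 := by
  apply SheafOfModules.hom_ext
  apply PresheafOfModules.hom_ext
  intro Y
  apply ModuleCat.hom_ext
  apply LinearMap.ext
  intro s
  have := congrArg (fun ψ => (ψ.val.app Y).hom s) h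
  exact this

end Res

section ClaimZ

variable {O O' : Sheaf J CommRingCat.{u}} (φ : O ⟶ O') (U : C)
  [ModSite.HasPushOver O U] [ModSite.HasPushOver O' U]

/-- a map into the restriction of scalars of a module `N` with `N ⟶ j_*j^*N` mono, which vanishes
on `C/U`, is zero. -/
lemma eq_zero_of_restr_map_eq_zero {T : ModSite.Mod O} {N : ModSite.Mod O'}
    [Mono ((ModSite.restrPushOverAdj O' U).unit.app N)] (h : T ⟶ (res φ).obj N)
    (hh : (ModSite.restr O U).map h = 0) : h = 0 := by
  let K := (Um O).obj T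
  let c : (Psi O).obj K ⟶ T := (adjPsi O).counit.app T
  haveI : Epi c := inferInstanceAs (Epi ((adjPsi O).counit.app T))
  rw [← cancel_epi c, comp_zero]
  have hx : (ModSite.restr O U).map (c ≫ h) =
      (ModSite.restr O U).map (0 : (Psi O).obj K ⟶ (res φ).obj N) := by
    rw [Functor.map_comp, hh, comp_zero, Functor.map_zero]
  have h1 := hat_of_restr_map_eq O U _ _ hx
  rw [hat_zero, comp_zero] at h1
  obtain ⟨x', hx'⟩ := hat_surjective O' (K := K) (F := N) (hat O (c ≫ h))
  have h2 : (ModSite.restr O' U).map x' = (ModSite.restr O' U).map 0 := by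
    apply restr_map_eq_of_hat
    rw [hx', hat_zero, comp_zero]
    exact h1
  have h3 : x' ≫ (ModSite.restrPushOverAdj O' U).unit.app N = 0 := by
    rw [comp_unit_eq_zero_iff', h2, Functor.map_zero]
  have h4 : x' = 0 := by
    rw [← cancel_mono ((ModSite.restrPushOverAdj O' U).unit.app N), h3, zero_comp]
  have h5 : hat O (c ≫ h) = 0 := by
    rw [← hx', h4, hat_zero]
    rfl
  exact hat_injective O (c ≫ h) 0 (h5.trans (hat_zero O).symm)

end ClaimZ

section Compare

variable {O O' : Sheaf J CommRingCat.{u}} (φ : O ⟶ O') (U : C)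
  [ModSite.HasPushOver O U] [ModSite.HasPushOver O' U]

lemma restr_sectOnι (O : Sheaf J CommRingCat.{u}) (U : C) [ModSite.HasPushOver O U]
    (F : ModSite.Mod O) : (ModSite.restr O U).map ((ModSite.sectOnι O U).app F) = 0 :=
  (comp_unit_eq_zero_iff' O U _).1 (kernel.condition _)

/-- the comparison `res(Γ'_Z F) ⟶ Γ_Z(res F)`. -/
def cmp (F : ModSite.Mod O') :
    (res φ).obj ((ModSite.sectOn O' U).obj F) ⟶ (ModSite.sectOn O U).obj ((res φ).obj F) :=
  SectOnRestr.sectOnLift O U ((res φ).map ((ModSite.sectOnι O' U).app F)) (by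
    rw [comp_unit_eq_zero_iff']
    exact restr_res_map_eq_zero φ U _ (restr_sectOnι O' U F))

lemma cmp_ι (F : ModSite.Mod O') :
    cmp φ U F ≫ (ModSite.sectOnι O U).app ((res φ).obj F) =
      (res φ).map ((ModSite.sectOnι O' U).app F) :=
  SectOnRestr.sectOnLift_ι O U _ _

instance mono_unit_push (F : ModSite.Mod O') :
    Mono ((ModSite.restrPushOverAdj O' U).unit.app
      ((ModSite.pushOver O' U).obj ((ModSite.restr O' U).obj F))) :=
  mono_of_mono_fac ((ModSite.restrPushOverAdj O' U).right_triangle_components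
    ((ModSite.restr O' U).obj F))

/-- the kernel sequence `0 ⟶ Γ'_Z F ⟶ F ⟶ j_*j^*F`. -/
def kerSC (F : ModSite.Mod O') : ShortComplex (ModSite.Mod O') :=
  ShortComplex.mk ((ModSite.sectOnι O' U).app F) ((ModSite.restrPushOverAdj O' U).unit.app F)
    (kernel.condition _)

lemma kerSC_exact (F : ModSite.Mod O') : (kerSC U F).Exact :=
  ShortComplex.exact_of_f_is_kernel _ (kernelIsKernel _)

instance (F : ModSite.Mod O') : Mono (kerSC U F).f := inferInstanceAs (Mono (kernel.ι _))

instance (F : ModSite.Mod O') : Mono ((kerSC U F).map (res φ)).f :=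
  inferInstanceAs (Mono ((res φ).map (kerSC U F).f))

lemma sectOnι_comp_res_unit (F : ModSite.Mod O') :
    (ModSite.sectOnι O U).app ((res φ).obj F) ≫
      (res φ).map ((ModSite.restrPushOverAdj O' U).unit.app F) = 0 := by
  haveI : Mono ((ModSite.restrPushOverAdj O' U).unit.app
      ((ModSite.restr O' U ⋙ ModSite.pushOver O' U).obj F)) := mono_unit_push U F
  apply eq_zero_of_restr_map_eq_zero φ U
  rw [Functor.map_comp, restr_sectOnι, zero_comp]

/-- the inverse comparison. -/
def cmpInv (F : ModSite.Mod O') :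
    (ModSite.sectOn O U).obj ((res φ).obj F) ⟶ (res φ).obj ((ModSite.sectOn O' U).obj F) :=
  ((kerSC_exact U F).map (res φ)).lift ((ModSite.sectOnι O U).app ((res φ).obj F))
    (sectOnι_comp_res_unit φ U F)

lemma cmpInv_ι (F : ModSite.Mod O') :
    cmpInv φ U F ≫ (res φ).map ((ModSite.sectOnι O' U).app F) =
      (ModSite.sectOnι O U).app ((res φ).obj F) :=
  ((kerSC_exact U F).map (res φ)).lift_f _ _

/-- `res(Γ'_Z F) ≅ Γ_Z(res F)`. -/
def cmpIso (F : ModSite.Mod O') :
    (res φ).obj ((ModSite.sectOn O' U).obj F) ≅ (ModSite.sectOn O U).obj ((res φ).obj F) where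
  hom := cmp φ U F
  inv := cmpInv φ U F
  hom_inv_id := by
    haveI : Mono ((res φ).map ((ModSite.sectOnι O' U).app F)) :=
      inferInstanceAs (Mono ((res φ).map (kerSC U F).f))
    rw [← cancel_mono ((res φ).map ((ModSite.sectOnι O' U).app F)), Category.assoc, cmpInv_ι,
      cmp_ι, Category.id_comp]
  inv_hom_id := by
    haveI : Mono ((ModSite.sectOnι O U).app ((res φ).obj F)) := inferInstanceAs (Mono (kernel.ι _))
    rw [← cancel_mono ((ModSite.sectOnι O U).app ((res φ).obj F)), Category.assoc, cmp_ι,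
      cmpInv_ι, Category.id_comp]

/-- `Γ'_Z ⋙ res ≅ res ⋙ Γ_Z`. -/
def sectOnResIso : ModSite.sectOn O' U ⋙ res φ ≅ res φ ⋙ ModSite.sectOn O U :=
  NatIso.ofComponents (fun F => cmpIso φ U F) (by
    intro F G f
    haveI : Mono ((ModSite.sectOnι O U).app ((res φ).obj G)) := inferInstanceAs (Mono (kernel.ι _))
    rw [← cancel_mono ((ModSite.sectOnι O U).app ((res φ).obj G))]
    dsimp only [Functor.comp_map, cmpIso]
    rw [Category.assoc, Category.assoc, cmp_ι]
    have n1 := (ModSite.sectOnι O U).naturality ((res φ).map f)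
    have n2 := (ModSite.sectOnι O' U).naturality f
    dsimp only [Functor.id_map, Functor.id_obj] at n1 n2
    rw [n1, ← Category.assoc, cmp_ι, ← Functor.map_comp, ← Functor.map_comp, n2])

end Compare

section Final

variable {O O' : Sheaf J CommRingCat.{u}} (φ : O ⟶ O') (U : C)
  [ModSite.HasPushOver O U] [ModSite.HasPushOver O' U]
  [HasInjectiveResolutions (ModSite.Mod O)] [HasInjectiveResolutions (ModSite.Mod O')]

/-- **`ℋ^q_Z` commutes with restriction of scalars.** -/
theorem nonempty_HZsh_res_iso (q : ℕ) :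
    Nonempty (ModSite.HZsh O' U q ⋙ res φ ≅ res φ ⋙ ModSite.HZsh O U q) := by
  haveI : PreservesLimitsOfSize.{0, 0} (ModSite.sectOn O U) :=
    (SuppAdj.adjQuotSect O U).rightAdjoint_preservesLimits
  haveI : PreservesFiniteLimits (ModSite.sectOn O U) := PreservesLimitsOfSize.preservesFiniteLimits _
  haveI : PreservesLimitsOfSize.{0, 0} (ModSite.sectOn O' U) :=
    (SuppAdj.adjQuotSect O' U).rightAdjoint_preservesLimits
  haveI : PreservesFiniteLimits (ModSite.sectOn O' U) :=
    PreservesLimitsOfSize.preservesFiniteLimits _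
  let T := DeltaIso.postcomp (DeltaIso.rdDelta (ModSite.sectOn O' U)) (res φ)
  let S := DeltaIso.precomp (res φ) (DeltaIso.rdDelta (ModSite.sectOn O U))
  have hT : T.IsEffaceable := DeltaIso.isEffaceable_of_isZero_injective T (fun I hI n =>
    (res φ).map_isZero (Functor.isZero_rightDerived_obj_injective_succ (ModSite.sectOn O' U) n I))
  have hS : S.IsEffaceable := DeltaIso.isEffaceable_of_isZero_injective S (fun I hI n =>
    isZero_HZsh_of_isTotallyAcyclic O U ((res φ).obj I)
      (ExtUnitH.isTotallyAcyclic_of_injective O' I) n)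
  have e : T.F 0 ≅ S.F 0 :=
    Functor.isoWhiskerRight (ModSite.sectOn O' U).rightDerivedZeroIsoSelf (res φ) ≪≫
      sectOnResIso φ U ≪≫
      (Functor.isoWhiskerLeft (res φ) (ModSite.sectOn O U).rightDerivedZeroIsoSelf).symm
  exact DeltaIso.nonempty_iso_of_isEffaceable hT hS e q

end Final

end Groth.Agent.Lib.Helper2.QuotZLib
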