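import Groth.Agent.Lib.Helper2.QuotZ.Basic
import Groth.Agent.Lib.Helper2.ModHomAcyclic
import Groth.Agent.Lib.Helper2.ExtUnitH

/-!
# Extension of maps `ℤ[K] ⟶ Hom_O(M, I)` along monomorphisms of sheaves of sets (helper2)
-/

set_option autoImplicit false
universe u

noncomputable section

namespace Groth.Agent.Lib.Helper2.QuotZLib

open CategoryTheory CategoryTheory.Limits Abelian Opposite MonoidalCategory
open Groth.Agent.Lib.Helper5 Groth.Agent.Lib.Helper13.ModSiteTensor
open Groth.Agent.Lib.Helper2.ModHomAcyclic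

section Abstract

theorem exists_extension_of_adj {𝒜 ℬ : Type*} [Category 𝒜] [Category ℬ] {L : 𝒜 ⥤ ℬ} {R : ℬ ⥤ 𝒜}
    (adj : L ⊣ R) (I : ℬ) [Injective I] {X Y : 𝒜} (m : X ⟶ Y) [Mono (L.map m)]
    (k : X ⟶ R.obj I) : ∃ g : Y ⟶ R.obj I, m ≫ g = k := by
  refine ⟨adj.homEquiv Y I (Injective.factorThru ((adj.homEquiv X I).symm k) (L.map m)), ?_⟩
  rw [← Adjunction.homEquiv_naturality_left, Injective.comp_factorThru, Equiv.apply_symm_apply]

end Abstract

section Free

variable (R : Type u) [Ring R]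

instance isSplitMono_free_map {S T : Type u} (i : S ⟶ T) [hi : Mono i] :
    IsSplitMono ((ModuleCat.free R).map i) := by
  have hinj : Function.Injective i := (mono_iff_injective i).1 hi
  have key : Finsupp.lcomapDomain (⇑(ConcreteCategory.hom i)) hinj ∘ₗ
      Finsupp.lmapDomain R R ⇑(ConcreteCategory.hom i) = LinearMap.id :=
    LinearMap.ext fun l => Finsupp.comapDomain_mapDomain _ hinj l
  refine ⟨⟨⟨ModuleCat.ofHom (Finsupp.lcomapDomain (⇑(ConcreteCategory.hom i)) hinj), ?_⟩⟩⟩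
  apply ModuleCat.hom_ext
  exact key

end Free

section Mod

variable {C : Type u} [SmallCategory C] {J : GrothendieckTopology C} (O : Sheaf J CommRingCat.{u})

lemma mono_of_mono_EU {A B : PMod O} (f : A ⟶ B) (h : ∀ U, Mono ((EU O U).map f)) : Mono f := by
  have h1 : Mono ((PresheafOfModules.toPresheaf
      (O.obj ⋙ forget₂ CommRingCat.{u} RingCat.{u})).map f) := by
    haveI : ∀ U, Mono (((PresheafOfModules.toPresheaf
      (O.obj ⋙ forget₂ CommRingCat.{u} RingCat.{u})).map f).app U) := h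
    apply NatTrans.mono_of_mono_app
  exact Functor.mono_of_mono_map (PresheafOfModules.toPresheaf _) h1

lemma mono_ThetaU_map (Fp : PMod O) (U : Cᵒᵖ) {S T : Type u} (i : S ⟶ T) [Mono i] :
    Mono ((ThetaU O Fp U).map i) := by
  haveI : IsSplitMono ((ThetaU O Fp U).map i) := by
    change IsSplitMono ((forget₂ (ModuleCat.{u} ((O.obj ⋙ forget₂ CommRingCat.{u} RingCat.{u}).obj U))
      AddCommGrpCat.{u}).map ((tensorRight (Fp.obj U)).map
        ((ModuleCat.free ((O.obj ⋙ forget₂ CommRingCat.{u} RingCat.{u}).obj U)).map i)))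
    infer_instance
  infer_instance

lemma mono_Xi_map (Fp : PMod O) {P Q : Cᵒᵖ ⥤ Type u} (φ : P ⟶ Q) [Mono φ] :
    Mono ((Xi O Fp).map φ) := by
  apply mono_of_mono_EU
  intro U
  haveI : Mono (φ.app U) := (NatTrans.mono_iff_mono_app φ).1 inferInstance U
  exact mono_ThetaU_map O Fp U (φ.app U)

variable (M : ModSite.Mod O)

/-- `(O ⊗_ℤ ℤ[K]) ⊗_O M ≅ a(O[K]^{pre} ⊗ M)`, naturally in the sheaf of sets `K`. -/
def tensΦIso : (CechFlasque.Φ J ⋙ LO O) ⋙ (ModSite.tensorBi O).flip.obj M ≅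
    (sheafToPresheaf J (Type u) ⋙ Xi O ((fgt O).obj M)) ⋙ shf O :=
  Functor.isoWhiskerRight (freeLOIso O) _ ≪≫ tensIso O M

lemma mono_tensor_map {K K' : Sheaf J (Type u)} (m : K ⟶ K') [Mono m] :
    Mono (((ModSite.tensorBi O).flip.obj M).map ((LO O).map ((CechFlasque.Φ J).map m))) := by
  haveI h1 : Mono ((sheafToPresheaf J (Type u)).map m) := inferInstance
  haveI := mono_Xi_map O ((fgt O).obj M) ((sheafToPresheaf J (Type u)).map m)
  haveI h2 : Mono (((sheafToPresheaf J (Type u) ⋙ Xi O ((fgt O).obj M)) ⋙ shf O).map m) :=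
    inferInstanceAs (Mono ((shf O).map ((Xi O _).map ((sheafToPresheaf J _).map m))))
  have nat := (tensΦIso O M).hom.naturality m
  have h3 : ((CechFlasque.Φ J ⋙ LO O) ⋙ (ModSite.tensorBi O).flip.obj M).map m =
      (tensΦIso O M).hom.app K ≫
        ((sheafToPresheaf J (Type u) ⋙ Xi O ((fgt O).obj M)) ⋙ shf O).map m ≫
          (tensΦIso O M).inv.app K' := by
    rw [← Category.assoc, ← nat, Category.assoc, Iso.hom_inv_id_app, Category.comp_id]
  change Mono (((CechFlasque.Φ J ⋙ LO O) ⋙ (ModSite.tensorBi O).flip.obj M).map m)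
  rw [h3]
  infer_instance

/-- maps `ℤ[K] ⟶ Hom_O(M, I)` extend along monomorphisms `K ⟶ K'` of sheaves of sets, for `I`
injective. -/
theorem exists_extension_sheafHom [ModSite.HasSheafHom M] (I : ModSite.Mod O) [Injective I]
    {K K' : Sheaf J (Type u)} (m : K ⟶ K') [Mono m]
    (k : (CechFlasque.Φ J).obj K ⟶ ModSite.toAb ((ModSite.sheafHom M).obj I)) :
    ∃ g : (CechFlasque.Φ J).obj K' ⟶ ModSite.toAb ((ModSite.sheafHom M).obj I),
      (CechFlasque.Φ J).map m ≫ g = k := by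
  haveI : Mono ((LO O ⋙ (ModSite.tensorBi O).flip.obj M).map ((CechFlasque.Φ J).map m)) :=
    mono_tensor_map O M m
  exact exists_extension_of_adj ((adjLO O).comp (ModSite.sheafHomAdj M)) I
    ((CechFlasque.Φ J).map m) k

lemma mono_FrP_map {P Q : Cᵒᵖ ⥤ Type u} (φ : P ⟶ Q) [Mono φ] : Mono ((FrP O).map φ) := by
  apply mono_of_mono_EU
  intro U
  haveI : Mono (φ.app U) := (NatTrans.mono_iff_mono_app φ).1 inferInstance U
  change Mono ((forget₂ (ModuleCat.{u} ((O.obj ⋙ forget₂ CommRingCat.{u} RingCat.{u}).obj U))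
      AddCommGrpCat.{u}).map
        ((ModuleCat.free ((O.obj ⋙ forget₂ CommRingCat.{u} RingCat.{u}).obj U)).map (φ.app U)))
  infer_instance

lemma mono_LO_map {K K' : Sheaf J (Type u)} (m : K ⟶ K') [Mono m] :
    Mono ((LO O).map ((CechFlasque.Φ J).map m)) := by
  haveI h1 : Mono ((sheafToPresheaf J (Type u)).map m) := inferInstance
  haveI := mono_FrP_map O ((sheafToPresheaf J (Type u)).map m)
  haveI h2 : Mono ((Psi O).map m) :=
    inferInstanceAs (Mono ((shf O).map ((FrP O).map ((sheafToPresheaf J _).map m))))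
  have nat := (freeLOIso O).hom.naturality m
  have h3 : (CechFlasque.Φ J ⋙ LO O).map m =
      (freeLOIso O).hom.app K ≫ (Psi O).map m ≫ (freeLOIso O).inv.app K' := by
    rw [← Category.assoc, ← nat, Category.assoc, Iso.hom_inv_id_app, Category.comp_id]
  change Mono ((CechFlasque.Φ J ⋙ LO O).map m)
  rw [h3]
  infer_instance

/-- maps `ℤ[K] ⟶ I` extend along monomorphisms `K ⟶ K'` of sheaves of sets, for `I` an injective
`O`-module. -/
theorem exists_extension_injective (I : ModSite.Mod O) [Injective I]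
    {K K' : Sheaf J (Type u)} (m : K ⟶ K') [Mono m]
    (k : (CechFlasque.Φ J).obj K ⟶ ModSite.toAb I) :
    ∃ g : (CechFlasque.Φ J).obj K' ⟶ ModSite.toAb I, (CechFlasque.Φ J).map m ≫ g = k := by
  haveI : Mono ((LO O).map ((CechFlasque.Φ J).map m)) := mono_LO_map O m
  exact exists_extension_of_adj (adjLO O) I ((CechFlasque.Φ J).map m) k

open Groth.Agent.Lib.Helper2.ExtUnitH in
/-- `Ext^{n+1}(ℤ/ℤ_W, I) = 0` for an injective `O`-module `I`. -/
theorem ext_quotZ_toAb_injective (W : Sheaf J (Type u)) (I : ModSite.Mod O) [Injective I]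
    (n : ℕ) (x : Ext (ToposFin.quotZ W) (ModSite.toAb I) (n + 1)) : x = 0 :=
  ext_quotZ_eq_zero W _ (isTotallyAcyclic_of_injective O I)
    (fun k => exists_extension_injective O I (mV W) k) n x

/-- `Ext^{n+1}(ℤ/ℤ_W, Hom_O(M, I)) = 0` for an injective `O`-module `I`. -/
theorem ext_quotZ_toAb_sheafHom (W : Sheaf J (Type u)) [ModSite.HasSheafHom M]
    (I : ModSite.Mod O) [Injective I]
    (n : ℕ) (x : Ext (ToposFin.quotZ W) (ModSite.toAb ((ModSite.sheafHom M).obj I)) (n + 1)) :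
    x = 0 :=
  ext_quotZ_eq_zero W _ (isTotallyAcyclic_sheafHom O M I)
    (fun k => exists_extension_sheafHom O M I (mV W) k) n x

end Mod

end Groth.Agent.Lib.Helper2.QuotZLib
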